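import Groth.Agent.Lib.CurveSlope
import Groth.Agent.Lib.CurveDuality
import Groth.Agent.H23.Frame
import Groth.Agent.QCoh.Qcqs
import Mathlib.AlgebraicGeometry.FunctionField

/-!
# Invertible quotients of bundles on integral schemes with principal local rings
-/

set_option backward.isDefEq.respectTransparency false
set_option backward.isDefEq.respectTransparency.types false
set_option linter.style.haveILetI false
set_option maxHeartbeats 1000000

universe u

open CategoryTheory CategoryTheory.Limits AlgebraicGeometry TopologicalSpace Opposite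

namespace Groth.Agent.DetDeg

open Groth.Agent.CurveBundle

variable {X : Scheme.{u}} [IsIntegral X] (U : X.Opens)

/-- Functions on `U`, pushed to `X`. -/
noncomputable abbrev CU : X.Modules :=
  (Scheme.Modules.pushforward U.ι).obj (Coh.structureModule (U : Scheme.{u}))

/-- Sections of `CU U` are functions. -/
noncomputable abbrev cf {W : X.Opens} (x : Γ(CU U, W)) : Γ((U : Scheme.{u}), U.ι ⁻¹ᵁ W) := x

theorem cf_smul {W : X.Opens} (r : Γ(X, W)) (x : Γ(CU U, W)) : cf U (r • x) = U.ι.app W r * cf U x := rfl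

variable {U}

theorem inf_nonempty (hU : (U : Set X).Nonempty) {W : X.Opens} (hW : (W : Set X).Nonempty) :
    Nonempty ↥((U.ι ⁻¹ᵁ W : (U : Scheme.{u}).Opens) : Scheme.{u}) := by
  obtain ⟨z, hzU, hzW⟩ := nonempty_preirreducible_inter U.2 W.2 hU hW
  exact ⟨⟨⟨z, hzU⟩, hzW⟩⟩

theorem ι_app_injective (hU : (U : Set X).Nonempty) {W : X.Opens} (hW : (W : Set X).Nonempty) :
    Function.Injective (U.ι.app W) := by
  haveI := inf_nonempty hU hW
  haveI : Nonempty ↥((U.ι ''ᵁ (U.ι ⁻¹ᵁ W) : X.Opens) : Scheme.{u}) := by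
    obtain ⟨z⟩ := inf_nonempty hU hW
    exact ⟨⟨U.ι z.1, z.1, z.2, rfl⟩⟩
  rw [Scheme.Opens.ι_app]
  exact map_injective_of_isIntegral X _

theorem eq_zero_of_smul_eq_zero (hU : (U : Set X).Nonempty) {W : X.Opens} (hW : (W : Set X).Nonempty)
    {r : Γ(X, W)} {x : Γ(CU U, W)} (h : r • x = 0) : r = 0 ∨ x = 0 := by
  haveI : Nonempty ↥(U : Scheme.{u}) := ⟨⟨hU.some, hU.some_mem⟩⟩
  haveI : IsIntegral (U : Scheme.{u}) := isIntegral_of_isOpenImmersion U.ι
  haveI := inf_nonempty hU hW
  haveI : IsDomain Γ((U : Scheme.{u}), U.ι ⁻¹ᵁ W) := IsIntegral.component_integral _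
  have h' : U.ι.app W r * cf U x = 0 := by rw [← cf_smul, h]
  exact (mul_eq_zero.1 h').imp (fun h0 => ι_app_injective hU hW (h0.trans (map_zero _).symm)) id

/-- Stalks of a submodule of `CU U` are torsion free. -/
theorem isTorsionFree_stalk (hU : (U : Set X).Nonempty) {I : X.Modules} (j : I ⟶ CU U) [Mono j] (x : X) :
    Module.IsTorsionFree (X.presheaf.stalk x) (I.presheaf.stalk x) := by
  refine Module.isTorsionFree_iff_smul_eq_zero.2 fun r m h => ?_
  obtain ⟨V, hxV, a, rfl⟩ := X.presheaf.exists_germ_eq (x := x) r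
  obtain ⟨V', hxV', b, rfl⟩ := TopCat.Presheaf.exists_germ_eq I.presheaf m
  let a₁ := X.presheaf.map (homOfLE (inf_le_left : V ⊓ V' ≤ V)).op a
  let b₁ := I.presheaf.map (homOfLE (inf_le_right : V ⊓ V' ≤ V')).op b
  have hx : x ∈ V ⊓ V' := ⟨hxV, hxV'⟩
  have h0 : I.presheaf.germ (V ⊓ V') x hx (a₁ • b₁) = I.presheaf.germ (V ⊓ V') x hx 0 := by
    rw [QCoh.germ_smul', X.presheaf.germ_res_apply, I.presheaf.germ_res_apply, h, map_zero]
  obtain ⟨W, hxW, i₁, i₂, h1⟩ := I.presheaf.germ_eq x hx hx _ _ h0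
  rw [map_zero, QCoh.map_smul'] at h1
  have h2 := congrArg (j.app W) h1
  rw [Scheme.Modules.Hom.app_smul, map_zero] at h2
  rcases eq_zero_of_smul_eq_zero hU ⟨x, hxW⟩ h2 with h3 | h3
  · refine Or.inl ?_
    rw [← X.presheaf.germ_res_apply (homOfLE inf_le_left) x hx a, ← X.presheaf.germ_res_apply i₁ x hxW a₁, h3, map_zero]
  · refine Or.inr ?_
    rw [← I.presheaf.germ_res_apply (homOfLE inf_le_right) x hx b, ← I.presheaf.germ_res_apply i₁ x hxW b₁,
      QCoh.app_injective j W (h3.trans (map_zero _).symm), map_zero]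

/-- A bundle inside `CU U` has rank at most one. -/
theorem rank_le_one (hU : (U : Set X).Nonempty) {I : X.Modules} (j : I ⟶ CU U) [Mono j] {r : ℕ}
    (hI : FlatMod.IsFinLocFreeOfRank r I) : r ≤ 1 := by
  by_contra hr
  push Not at hr
  obtain ⟨V, hxV, ⟨e⟩⟩ := hI hU.some
  obtain ⟨s, hs⟩ := H23.Frame.exists_frame e
  let W := V ⊓ U
  have hWne : (W : Set X).Nonempty := ⟨hU.some, hxV, hU.some_mem⟩
  haveI : Nonempty ↥(W : Scheme.{u}) := ⟨⟨hWne.some, hWne.some_mem⟩⟩
  let t : Fin r → Γ(I, W) := fun i => I.presheaf.map (homOfLE (inf_le_left : W ≤ V)).op (s i)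
  have hbij := hs W inf_le_left
  have hd : ∀ i, ∃ d : Γ(X, W), U.ι.app W d = cf U (j.app W (t i)) := by
    intro i
    have hb : Function.Bijective (U.ι.app W) := by
      have key : ∀ (O : X.Opens) (e : O ≤ W), O = W → Function.Bijective (X.presheaf.map (homOfLE e).op) := by
        rintro O e rfl
        rw [show (homOfLE e) = 𝟙 _ from rfl, op_id, X.presheaf.map_id]
        exact Function.bijective_id
      rw [Scheme.Opens.ι_app]
      exact key _ _ ((Scheme.Hom.image_preimage_eq_opensRange_inf _ _).trans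
        (by rw [Scheme.Opens.opensRange_ι]; exact inf_eq_right.2 inf_le_right))
    exact hb.2 _
  choose d hd using hd
  let i0 : Fin r := ⟨0, by omega⟩
  let i1 : Fin r := ⟨1, hr⟩
  have hne : i1 ≠ i0 := by simp [i0, i1, Fin.ext_iff]
  let c : Fin r → Γ(X, W) := fun i => if i = i0 then d i1 else if i = i1 then -d i0 else 0
  have hc : H23.Frame.comb I s W inf_le_left c = d i1 • t i0 + (-d i0) • t i1 := by
    show ∑ i, c i • t i = _
    have h2 : ∀ i ∈ Finset.univ, i ∉ ({i0, i1} : Finset (Fin r)) → c i • t i = 0 := by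
      intro i _ hi
      simp only [Finset.mem_insert, Finset.mem_singleton, not_or] at hi
      simp [c, hi.1, hi.2]
    rw [← Finset.sum_subset (Finset.subset_univ _) h2, Finset.sum_pair hne.symm]
    simp [c, hne]
  have h0 : H23.Frame.comb I s W inf_le_left c = H23.Frame.comb I s W inf_le_left 0 := by
    refine QCoh.app_injective j W ?_
    rw [hc]
    show _ = j.app W (∑ i, (0 : Γ(X, W)) • t i)
    simp only [zero_smul, Finset.sum_const_zero, map_zero, map_add, Scheme.Modules.Hom.app_smul]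
    show cf U _ = (0 : Γ((U : Scheme.{u}), U.ι ⁻¹ᵁ W))
    rw [show ∀ (p q : Γ(CU U, W)), cf U (p + q) = cf U p + cf U q from fun _ _ => rfl, cf_smul, cf_smul,
      ← hd, ← hd, map_neg]
    ring
  have hc0 := congrFun (hbij.1 h0) i1
  have hd0 : d i0 = 0 := by simpa [c, hne] using hc0
  have ht : t i0 = 0 := QCoh.app_injective j W (by
    refine Eq.trans ?_ (map_zero _).symm
    show cf U _ = (0 : Γ((U : Scheme.{u}), U.ι ⁻¹ᵁ W))
    rw [← hd, hd0, map_zero])
  have h1 : H23.Frame.comb I s W inf_le_left (Pi.single i0 1) = H23.Frame.comb I s W inf_le_left 0 := by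
    show ∑ i, (Pi.single i0 (1 : Γ(X, W)) : Fin r → Γ(X, W)) i • t i = ∑ i, (0 : Γ(X, W)) • t i
    rw [Finset.sum_eq_single i0 (fun i _ hi => by simp [hi]) (fun h => absurd (Finset.mem_univ _) h)]
    simp [ht]
  have h2 := congrFun (hbij.1 h1) i0
  rw [Pi.single_eq_same, Pi.zero_apply] at h2
  exact one_ne_zero (α := Γ(X, W)) h2

/-- A bundle of positive rank has an invertible quotient with a bundle as kernel. -/
theorem exists_invertible_quotient [IsNoetherian X] [∀ x : X, IsPrincipalIdealRing (X.presheaf.stalk x)]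
    {n : ℕ} {E : X.Modules} (hE : FlatMod.IsFinLocFreeOfRank (n + 1) E) :
    ∃ S : ShortComplex X.Modules, S.ShortExact ∧ S.X₂ = E ∧ FlatMod.IsFinLocFreeOfRank n S.X₁ ∧
      FlatMod.IsFinLocFreeOfRank 1 S.X₃ := by
  have hEf : FlatMod.IsFinLocFree E := fun x => let ⟨W, hx, e⟩ := hE x; ⟨W, n + 1, hx, e⟩
  have hEc := CurveDeg.isCoh_of_isFinLocFree hEf
  obtain ⟨U, hxU, ⟨e⟩⟩ := hE (genericPoint X)
  have hU : (U : Set X).Nonempty := ⟨_, hxU⟩
  haveI : Nonempty ↥(U : Scheme.{u}) := ⟨⟨_, hxU⟩⟩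
  let φ : E.restrict U.ι ⟶ Coh.structureModule (U : Scheme.{u}) := e.hom ≫ H23.Frame.proj _ _ 0
  have hφ : φ ≠ 0 := fun h0 => by
    have h1 : (H23.Frame.incl _ (n + 1) 0 ≫ e.inv) ≫ φ = 𝟙 (Coh.structureModule (U : Scheme.{u})) := by
      rw [Category.assoc, Iso.inv_hom_id_assoc, H23.Frame.incl_proj, if_pos rfl]
    rw [h0, comp_zero] at h1
    have h2 := congrArg (fun ψ => Scheme.Modules.Hom.app ψ ⊤ (1 : Γ((U : Scheme.{u}), ⊤))) h1.symm
    exact one_ne_zero (α := Γ((U : Scheme.{u}), ⊤)) h2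
  let a : E ⟶ CU U :=
    (Scheme.Modules.restrictAdjunction U.ι).unit.app E ≫ (Scheme.Modules.pushforward U.ι).map φ
  have ha : a ≠ 0 := fun h0 => hφ <| by
    refine ((Scheme.Modules.restrictAdjunction U.ι).homEquiv _ _).injective ?_
    rw [Adjunction.homEquiv_unit, Adjunction.homEquiv_unit, Functor.map_zero, comp_zero]
    exact h0
  haveI : QuasiCompact U.ι := inferInstance
  have hC : Coh.IsQCoh (CU U) := QCoh.isQCoh_pushforward U.ι QCoh.isQCoh_structureModule
  have hK : Coh.IsCoh (kernel a) := QCoh.isCoh_of_mono (kernel.ι a) hEc (QCoh.isQCoh_kernel hEc.1 hC a)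
  have hI : Coh.IsCoh (Abelian.coimage a) := QCoh.isCoh_cokernel hK.1 hEc _
  let j : Abelian.coimage a ⟶ CU U := Abelian.factorThruCoimage a
  have hKf : FlatMod.IsFinLocFree (kernel a) :=
    QCoh.isFinLocFree_iff.2 ⟨QCoh.isCoh_iff_isFP.1 hK, fun x => free_stalk_of_mono (kernel.ι a) hEf x⟩
  have hIf : FlatMod.IsFinLocFree (Abelian.coimage a) :=
    QCoh.isFinLocFree_iff.2 ⟨QCoh.isCoh_iff_isFP.1 hI, fun x => by
      haveI := isTorsionFree_stalk hU j x
      haveI := finite_stalk_of_coh hI x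
      exact Module.free_of_finite_type_torsion_free'⟩
  have h1 := rank_le_one hU j (isFinLocFreeOfRank_rk hIf)
  have h2 : rk (Abelian.coimage a) ≠ 0 := fun h0 => ha <| by
    rw [← Abelian.coimage.fac a, (isZero_of_rk_zero hIf h0).eq_of_src (Abelian.factorThruCoimage a) 0, comp_zero]
  let S : ShortComplex X.Modules := .mk (kernel.ι a) (Abelian.coimage.π a) (cokernel.condition _)
  have hS : S.ShortExact := { exact := ShortComplex.exact_of_g_is_cokernel _ (cokernelIsCokernel _) }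
  have h3 : rk E = rk (kernel a) + rk (Abelian.coimage a) :=
    rk_add hS (finite_stalk_of_coh hEc _)
  rw [rk_eq hE] at h3
  refine ⟨S, hS, rfl, ?_, ?_⟩
  · have := isFinLocFreeOfRank_rk hKf
    rwa [show rk (kernel a) = n by omega] at this
  · have := isFinLocFreeOfRank_rk hIf
    rwa [show rk (Abelian.coimage a) = 1 by omega] at this

end Groth.Agent.DetDeg
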