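import Groth.Agent.DetDeg.LineQuot
import Groth.Agent.S7637
import Groth.Agent.S7640
import Groth.Agent.S7643
import Groth.Agent.S1641
import Groth.Agent.ExtPow7.DetHom
import Groth.Agent.ExtPow7.Exists
import Groth.Agent.ExtPow7.PullMat
import Groth.Agent.NefTest.Basic
import Groth.Agent.CurveExt.RegularSub
import Groth.Agent.KRR7.PullModel
import Groth.Agent.IntNum.CurveAmple

/-!
# The degree of a bundle is the degree of its determinant
-/

set_option backward.isDefEq.respectTransparency false
set_option backward.isDefEq.respectTransparency.types false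
set_option linter.style.haveILetI false
set_option maxHeartbeats 1000000

universe u

open CategoryTheory CategoryTheory.Limits AlgebraicGeometry TopologicalSpace Opposite

namespace Groth.Agent.DetDeg

open Groth.Agent.CurveBundle

variable (k : Type u) [Field k]

/-- On a regular curve. -/
theorem deg_eq_regular {X : Scheme.{u}} [X.Over (Spec (CommRingCat.of k))] [IsIntegral X]
    [IsProper (X ↘ Spec (CommRingCat.of k))] (hdim : topologicalKrullDim X = 1)
    (hreg : ∀ x : X, IsRegularLocalRing (X.presheaf.stalk x)) :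
    ∀ (n : ℕ) (E L : X.Modules), FlatMod.IsFinLocFreeOfRank n E → ExtPow.IsExtPow n E L →
      Curv2.deg k X E n = Curv2.deg k X L 1 := by
  haveI := CurveCohLib.isNoetherian_of_proper (k := k) (X := X)
  haveI : ∀ x : X, IsPrincipalIdealRing (X.presheaf.stalk x) :=
    fun x => CurveExt.RegularSub.isPrincipalIdealRing_stalk k hdim.le hreg x
  intro n
  induction n with
  | zero =>
    intro E L hE hL
    have hEf := ExtPow7.flf hE
    obtain ⟨e⟩ := ExtPow7.nonempty_iso_isExtPow hEf hL (ExtPow7.isExtPow_zero E)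
    rw [CurveRR.deg_congr k e 1, CurveDeg.deg_structureModule k]
    simp [Curv2.deg, CurveSlope.euler_eq_zero_of_isZero k (isZero_of_rk_zero hEf (rk_eq hE))]
  | succ n ih =>
    intro E L hE hL
    obtain ⟨S, hS, rfl, h₁, h₃⟩ := exists_invertible_quotient hE
    obtain ⟨L₁, hL₁, -⟩ := ExtPow7.exists_isExtPow (ExtPow7.flf h₁) n
    obtain ⟨e⟩ := ExtPow7.nonempty_iso_top_of_ses hS h₁ h₃ L₁ L S.X₃ hL₁ hL (ExtPow7.isExtPow_one _)
    have hL₁' := InvEnd.isFinLocFreeOfRank_one (ExtPow7.isInvertible_topExtPow h₁ hL₁)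
    have h4 := S7637.result k X hdim.le 1 1 L₁ S.X₃ hL₁' h₃
    rw [S7643.result k X hdim.le S hS n (n + 1) 1 h₁ hE h₃, ih _ _ h₁ hL₁, CurveRR.deg_congr k e 1]
    simp only [mul_one, Nat.cast_one, one_mul] at h4
    rw [h4]
    ring

/-- On an integral curve. -/
theorem deg_eq_integral {X : Scheme.{u}} [X.Over (Spec (CommRingCat.of k))] [IsIntegral X]
    [IsProper (X ↘ Spec (CommRingCat.of k))] (hdim : topologicalKrullDim X = 1) (n : ℕ) (E L : X.Modules)
    (hE : FlatMod.IsFinLocFreeOfRank n E) (hL : ExtPow.IsExtPow n E L) :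
    Curv2.deg k X E n = Curv2.deg k X L 1 := by
  obtain ⟨X', _, _, _, h, _, hh, hd, hreg, hsurj⟩ := NefTest.exists_regular_curve k X hdim
  haveI := hsurj
  have hξ : h (genericPoint X') = genericPoint X := by
    have h1 := (genericPoint_spec X').image h.continuous
    rw [Set.image_univ, h.surjective.range_eq, closure_univ] at h1
    exact h1.eq (genericPoint_spec X)
  have hL1 := InvEnd.isFinLocFreeOfRank_one (ExtPow7.isInvertible_topExtPow hE hL)
  have hE' := KRR7.isFinLocFreeOfRank_pullback h hE
  obtain ⟨L', hL', -⟩ := ExtPow7.exists_isExtPow (ExtPow7.flf hE') n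
  obtain ⟨e⟩ := ExtPow7.nonempty_iso_pullback_isExtPow h (ExtPow7.flf hE) hL hL'
  have h1 := S7640.result k X' X hd hdim h hh hξ n E hE
  have h2 := S7640.result k X' X hd hdim h hh hξ 1 L hL1
  rw [deg_eq_regular k hd hreg n _ L' hE' hL', ← CurveRR.deg_congr k e 1, h2] at h1
  have hpos : 0 < h.residueDegree (genericPoint X') :=
    (NefTest.sym_finite_pullback k h hh hd (CurveDeg.isInvertible_structureModule (X := X))).2
  exact (mul_left_cancel₀ (Int.natCast_ne_zero.2 hpos.ne') h1).symm

/-- The degree of a bundle is the degree of its determinant. -/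
theorem deg_eq {X : Scheme.{u}} [X.Over (Spec (CommRingCat.of k))] [IsProper (X ↘ Spec (CommRingCat.of k))]
    (hdim : topologicalKrullDim X ≤ 1) (n : ℕ) (E L : X.Modules)
    (hE : FlatMod.IsFinLocFreeOfRank n E) (hL : ExtPow.IsExtPow n E L) :
    Curv2.deg k X E n = Curv2.deg k X L 1 := by
  haveI := CurveCohLib.isNoetherian_of_proper (k := k) (X := X)
  have hL1 := InvEnd.isFinLocFreeOfRank_one (ExtPow7.isInvertible_topExtPow hE hL)
  rw [S1641.result k X hdim n E hE, S1641.result k X hdim 1 L hL1]
  refine finsum_congr fun Z => ?_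
  split_ifs with hZ
  · congr 1
    have hcl : closure ({Z.2.1.genericPoint} : Set X) = Z.1 :=
      Z.2.1.closure_genericPoint (isClosed_of_mem_irreducibleComponents Z.1 Z.2)
    have hI : IntNum.ptIdeal Z.2.1.genericPoint = (X.irreducibleComponentIdeal Z.1 Z.2).radical := by
      rw [← Scheme.IdealSheafData.vanishingIdeal_support]
      have hsupp : ((X.irreducibleComponentIdeal Z.1 Z.2).support : Set X) = Z.1 := rfl
      unfold IntNum.ptIdeal
      congr 1
      exact Closeds.ext (hcl.trans hsupp.symm)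
    rw [← hI]
    set J := IntNum.ptIdeal Z.2.1.genericPoint
    letI : J.subscheme.Over (Spec (CommRingCat.of k)) := ⟨J.subschemeι ≫ (X ↘ Spec (CommRingCat.of k))⟩
    haveI : IsIntegral J.subscheme := QCoh.isIntegral_closure_point _
    haveI : IsProper (J.subscheme ↘ Spec (CommRingCat.of k)) :=
      show IsProper (J.subschemeι ≫ (X ↘ Spec (CommRingCat.of k))) from inferInstance
    have hd : topologicalKrullDim J.subscheme = 1 := by
      rw [IsHomeomorph.topologicalKrullDim_eq _ J.subschemeι.isClosedEmbedding.isEmbedding.toHomeomorph.isHomeomorph,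
        (IntNum.range_ptIdeal _).trans hcl, hZ]
    have hE' := KRR7.isFinLocFreeOfRank_pullback J.subschemeι hE
    obtain ⟨L', hL', -⟩ := ExtPow7.exists_isExtPow (ExtPow7.flf hE') n
    obtain ⟨e⟩ := ExtPow7.nonempty_iso_pullback_isExtPow J.subschemeι (ExtPow7.flf hE) hL hL'
    rw [deg_eq_integral k hd n _ L' hE' hL', CurveRR.deg_congr k e 1]
  · rfl

end Groth.Agent.DetDeg
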